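import Cfsg.Agent.Mrg.Omega.ML.LieRow.Row
import Cfsg.Agent.Omega.ML.LieRow.SzSplit
import Cfsg.Agent.FixBN.SplitRGD
import Cfsg.Agent.Nodes.RGDLie
import Cfsg.Agent.Mrg.ParSys.Fam.TwoFFour
import Cfsg.Agent.S0320


/-!
# (ML), the rows of Lie type in characteristic two

* `hasSplit_of_lie` : every simple group of Lie type in characteristic two has a split (B,N)-pair;
* `oppSyl_of_hasSplit` : `K` simple and normal in `H`, with a split (B,N)-pair of characteristic two, `C_H(K) = 1`,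
  `K T = H`: then `OppSyl T`;
* **`dead_lie`** : the row `Dead (IsLieTypeChar 2)`.
-/

set_option autoImplicit false

namespace Cfsg.Agent.Omega.ML.LieRow

open Subgroup Cfsg Cfsg.Agent.ZN Cfsg.Agent.Omega.ML.Rows
open Cfsg.Agent.Tits.Core Cfsg.Agent.Tits.OfBN Cfsg.Agent.Schreier.BNSch Cfsg.Agent.FixBN

universe u v

/-- a nontrivial group has no root group datum of rank zero -/
theorem hasSplit_of_rgd {p : ℕ} (hp : p.Prime) {G : Type*} [Group G] [IsSimpleGroup G]
    (h : Nodes.RGDChev.HasRGD p G) : HasSplit p G := by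
  obtain ⟨l, M, A, h, T, n, X, hW, R, hX⟩ := h
  rcases Nat.eq_zero_or_pos l with rfl | hl
  · exfalso
    have h1 : Nodes.RGDLib.G1 M.toCoxeterSystem h X = ⊥ := by
      rw [eq_bot_iff]
      unfold Nodes.RGDLib.G1 Nodes.BNOf.RGD.Sup
      refine iSup_le ?_
      rintro ⟨x, w, i, -⟩
      exact i.elim0
    rw [h1] at hX
    obtain ⟨x, y, hxy⟩ := exists_pair_ne G
    have h2 : ∀ z : G, z = 1 := fun z => mem_bot.1 (by rw [hX]; trivial)
    exact hxy ((h2 x).trans (h2 y).symm)
  · have : Nonempty (Fin l) := ⟨⟨0, hl⟩⟩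
    exact SplitRGD.hasSplit_of_rgd hp R (by
      rw [eq_top_iff, ← hX]
      exact Nodes.RGDLib.rgd_G1_le R)

/-- Every simple group of Lie type in characteristic two has a split (B,N)-pair. -/
theorem hasSplit_of_lie {G : Type*} [Group G] [IsSimpleGroup G] (h : IsLieTypeChar 2 G) : HasSplit 2 G := by
  rcases Nodes.RGDLie.hasRGD_of_lie h with h | ⟨-, h⟩ | ⟨-, h⟩ | ⟨h, -⟩
  · exact hasSplit_of_rgd Nat.prime_two h
  · exact SzSplit.hasSplit_of_isoSuzuki h
  · obtain ⟨K, i1, i2, m, hm, hK, ⟨e⟩⟩ := h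
    obtain ⟨Q, UE, s, t, hp, -⟩ := ParSys.Fam.TwoFFour.exists_all hm hK
    refine Transport.hasSplit_congr e.symm ⟨Q, UE, ⟨s, ?_⟩, hp.split⟩
    rw [hp.S]
    exact Set.mem_insert _ _
  · omega

/-- **The opposite Sylow group, for split (B,N)-pairs.** -/
theorem oppSyl_of_hasSplit {H : Type*} [Group H] [Finite H] {K : Subgroup H} (hK : K.Normal) (hs : IsSimpleGroup K)
    (h : HasSplit 2 K) (hC : centralizer (K : Set H) = ⊥) {T : Subgroup H} (hT : IsPGroup 2 T)
    (hTi : ¬ 2 ∣ T.index) (hKT : K ⊔ T = ⊤) : OppSyl T := by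
  have : Fact (Nat.Prime 2) := ⟨Nat.prime_two⟩
  obtain ⟨P, U, hne, h⟩ := h
  have hN : ((P.B ⊓ P.N).subgroupOf P.N).Normal := normal_subgroupOf P
  obtain ⟨M, cs, hcs⟩ := S0320.result P
  have hI : Finite P.S := OfBN.finite_I (Equiv.refl P.S)
  have hIn : Nonempty P.S := hne.to_subtype
  have S := OfBN.sys (Equiv.refl P.S) cs hcs h
  have hth := thick P (Equiv.refl P.S) cs hcs
  obtain ⟨A⟩ := exists_hact S hth (fun τ => UGT.U2.FOne.exists_mv h (Equiv.refl P.S) cs hcs τ)
  refine oppSyl_of_hact A S hth ?_ hT hTi hKT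
  intro x hx
  have h1 : x ∈ centralizer (K : Set H) := mem_centralizer_iff.2 fun k hk => (hx k hk).symm
  rwa [hC, mem_bot] at h1

/-- `OppSyl` for the socles of Lie type in characteristic two. -/
theorem oppG_lie : OppG.{u} (fun S _ => HasSplit 2 S) := by
  intro X _ _ S T hn hs hc hT hTi hST h
  exact oppSyl_of_hasSplit hn hs h hc hT hTi hST

/-- The row of the simple groups with a split (B,N)-pair of characteristic two. -/
theorem dead_split : Dead.{u, v} (fun S _ => HasSplit 2 S) :=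
  oppG_lie.dead fun _ _ _ _ e h => Transport.hasSplit_congr e h

/-- **The row of the groups of Lie type in characteristic two.** -/
theorem dead_lie : Dead.{u, v} (fun S _ => IsLieTypeChar 2 S) := by
  intro H _ _ M _ _ _ K T A h hK
  have := h.qs.2
  exact dead_split H M K T A h (hasSplit_of_lie hK)

end Cfsg.Agent.Omega.ML.LieRow
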